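import Cfsg.Agent.Lib.GC.Na

/-!
# A 2-central involution with 2-closed centralizer: definitions

See `docs/B2C.md`.
-/

set_option autoImplicit false

namespace Cfsg.Lib.B2C

open Subgroup Cfsg.Lib.BG Cfsg.Lib.Transfer Cfsg.Lib.Loc Cfsg.Lib.PLocal Cfsg.Lib.PU
open scoped commutatorElement

scoped notation "𝐐" => pCoreOf 2
scoped notation "𝐑" => pResidualOf 2
scoped notation "𝛀" => omegaOneCenter 2
scoped notation "𝐉" => thompsonSubgroupOf 2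
scoped notation "𝐁" => baum 2
scoped notation "𝐘" X:max => omegaOneCenter 2 (pCoreOf 2 X)
scoped notation "𝐖" X:max => ⁅omegaOneCenter 2 (pCoreOf 2 X), X⁆

variable {G : Type*} [Group G]

/-- `t` is an involution, `S` is a Sylow subgroup of `G` that is normal in `C(t)`. -/
structure Hy (t : G) (S : Subgroup G) : Prop where
  t2 : t * t = 1
  t1 : t ≠ 1
  syl : SylIn 2 S ⊤
  cen : S ≤ 𝐂[t]
  nrm : 𝐂[t] ≤ 𝐍(S)

/-- The same with `S` self-centralizing. -/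
structure Ct (t : G) (S : Subgroup G) : Prop extends Hy t S where
  cs : 𝐂(S) ≤ S

/-- `O₂(K)` is self-centralizing in `G`. -/
def Gd (K : Subgroup G) : Prop := 𝐂(𝐐 K) ≤ 𝐐 K

/-- An extremal rank one group over its Sylow subgroup `P`. -/
structure Bk (P X : Subgroup G) : Prop extends FF 2 P X where
  gd : Gd X
  bm : 𝐁 P = P
  wc : ∀ K Y : Subgroup G, Gd K → X ≤ K → IsPGroup 2 Y → P ≤ Y → Y ≤ K → 𝐁 Y = P

/-- A linked pair. -/
structure LP (P X X' : Subgroup G) : Prop where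
  l : Bk P X
  r : Bk P X'
  nle : ¬ 𝐘 X ≤ 𝐐 X'

/-- A linked pair inside `S`. -/
structure LS (t : G) (S P X X' : Subgroup G) : Prop extends Ct t S, LP P X X' where
  le : P ≤ S

/-- An unlinked group. -/
structure Ul (P X : Subgroup G) : Prop extends Bk P X where
  ul : ∀ X', Bk P X' → 𝐘 X ≤ 𝐐 X'

/-- Commuting linked pairs. -/
structure Cm (X X' U U' : Subgroup G) : Prop where
  a : 𝐑 U ≤ 𝐂(𝐑 X)
  b : 𝐑 U ≤ 𝐂(𝐑 X')
  c : 𝐑 U' ≤ 𝐂(𝐑 X)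
  d : 𝐑 U' ≤ 𝐂(𝐑 X')

/-- Equal linked pairs. -/
def Sm (X X' U U' : Subgroup G) : Prop := (𝐑 U = 𝐑 X ∧ 𝐑 U' = 𝐑 X') ∨ (𝐑 U = 𝐑 X' ∧ 𝐑 U' = 𝐑 X)

/-- The noncentral involutions of the four-groups with centre `z`. -/
def Rf (t : G) (S : Subgroup G) (z : G) : Set G :=
  {a | ∃ P X X', LS t S P X X' ∧ (𝐐 X).relIndex P = 2 ∧ ⁅𝐘 X, P⁆ = zpowers z ∧ a ∈ 𝐖 X ∧ a ∉ zpowers z}

/-- An abstract set of reflections in a 2-group. -/
structure Rs (S : Subgroup G) (z : G) (I : Set G) : Prop where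
  pg : IsPGroup 2 S
  z2 : z * z = 1
  z1 : z ≠ 1
  zS : z ∈ S
  mem : ∀ a ∈ I, a ∈ S
  sq : ∀ a ∈ I, a * a = 1
  cz : ∀ a ∈ I, a * z = z * a
  ne : ∀ a ∈ I, a ≠ 1 ∧ a ≠ z
  mz : ∀ a ∈ I, a * z ∈ I
  cj : ∀ s ∈ S, s * z = z * s → ∀ a ∈ I, s * a * s⁻¹ ∈ I
  cm : ∀ a ∈ I, ∀ b ∈ I, a * b = b * a → b = a ∨ b = a * z
  pt : ∀ a ∈ I, ∃ a' ∈ I, a' * a * a' = a * z ∧
    ∀ b ∈ S, b * b = 1 → b * a * b = a * z → b * a' = a' * b

variable (G) in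
/-- The list. -/
def Lst : Prop :=
  (∃ (F : Type) (_ : Field F) (_ : Fintype F) (n : ℕ), 2 ≤ n ∧ Fintype.card F = 2 ^ n ∧
      (Nonempty (G ≃* Matrix.ProjectiveSpecialLinearGroup (Fin 2) F) ∨
        Nonempty (G ≃* Matrix.ProjectiveSpecialLinearGroup (Fin 3) F) ∨
        Nonempty (G ≃* Cfsg.PSp 2 F))) ∨
    Cfsg.Lie.IsoSuzuki G ∨
    (∃ (F : Type) (_ : Field F) (_ : Fintype F) (n : ℕ), 2 ≤ n ∧ Fintype.card F = (2 ^ n) ^ 2 ∧
      Nonempty (G ≃* Cfsg.PSU 3 F (2 ^ n))) ∨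
    (∃ (F : Type) (_ : Field F) (_ : Fintype F) (n : ℕ), 3 < Fintype.card F ∧
      (Fintype.card F = 2 ^ n + 1 ∨ Fintype.card F + 1 = 2 ^ n) ∧
      Nonempty (G ≃* Matrix.ProjectiveSpecialLinearGroup (Fin 2) F))

/-- `G = L⟨t⟩` with `L` simple, normal and self-centralizing. -/
structure As (t : G) (L : Subgroup G) : Prop where
  nml : L.Normal
  sim : IsSimpleGroup L
  nab : ¬ IsMulCommutative L
  sup : L ⊔ zpowers t = ⊤
  cen : 𝐂(L) = ⊥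

/-- The conclusion of the main theorem. -/
def Cn (t : G) (L : Subgroup G) : Prop := L = ⊤ ∧ Lst G ∧ ∀ u U, Hy u U → IsConj t u

/-- `t` fixes exactly one coset of a proper subgroup. -/
def Ho (t : G) (S : Subgroup G) : Prop :=
  ∃ M : Subgroup G, M ≠ ⊤ ∧ 𝐍(S) ≤ M ∧ ∀ g, g * t * g⁻¹ ∈ M → g ∈ M

end Cfsg.Lib.B2C
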