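import Cfsg.Agent.Lib.B2C.Def

/-!
Natural modules: `Y = 𝐘 X`, `A = 𝐖 X = [Y, X]`, `E = 𝐑 X`, `Q = 𝐐 X`, `R = [Y, P]`, `q = |P : Q|`.
-/

set_option autoImplicit false
set_option linter.unusedSectionVars false

namespace Cfsg.Lib.B2C

open Subgroup Cfsg.Lib.BG Cfsg.Lib.Transfer Cfsg.Lib.Loc Cfsg.Lib.PLocal Cfsg.Lib.CGT Cfsg.Lib.PU
open Cfsg.Lib.CS Cfsg.Lib.Root Cfsg.Lib.Core Cfsg.Lib.GC
open scoped commutatorElement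

variable {G : Type*} [Group G] [Finite G] {B M N P U X : Subgroup G} {f g w x y z : G}

theorem ff_of_max (h1 : IsChP 2 X) (h2 : Rk0 2 P M X) (h3 : ¬ 𝐑 X ≤ 𝐂(𝐘 X)) (hB : B ∈ maxIn 2 P)
    (h4 : ¬ B ≤ 𝐐 X) : FF 2 P X := by
  have hY : 𝐘 X ≤ P := (oz_le _).trans h2.core_le
  have c := ((h2.res_le_or (norm_cent (norm_Y 2 X))).resolve_left h3).2
  obtain ⟨D, hD, -, a, b⟩ := exists_quadratic_mem_maxIn h2.pmin.pgroup hB hY (oz_elemAb _)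
    ((hB.1.trans h2.le).trans (norm_Y 2 X)) fun e => h4 ((le_inf hB.1 e).trans c)
  obtain ⟨-, r, k, -⟩ := h2.natSec (oz_elemAb _).1 (elab_pgroup (oz_elemAb _)) (norm_Y 2 X)
    (le_centralizer_oz _) h3 hD.1 (fun e => b (e.trans (le_centralizer_oz _))) a
    ((max_off hD hY (oz_elemAb _)).trans (by
      rw [← inf_relIndex_left, le_antisymm ((inf_le_inf_right _ hD.1).trans c |> le_inf inf_le_left)
        (inf_le_inf_left D (le_centralizer_oz _)), inf_relIndex_left]))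
  exact ⟨h1, ⟨M, h2⟩, h3, comm_eq_bot_iff.1 r.quad, k.le⟩

omit [Finite G] in
theorem idx_sup {A C D Y : Subgroup G} (h1 : A ≤ Y) (h2 : Y ≤ A ⊔ D) (h3 : D ≤ Y ⊓ C)
    (h4 : IsMulCommutative Y) : C.relIndex A = C.relIndex Y := by
  have := relIndex_sup_of_le_normalizer (h1.trans (abelian_norm h4 (inf_le_left (b := C))))
  rw [le_antisymm (sup_le h1 inf_le_left) (h2.trans (sup_le_sup_left h3 A)), inf_relIndex_left] at this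
  rw [this, ← inf_relIndex_left A (_ ⊓ C), ← inf_assoc, inf_eq_left.2 h1, inf_relIndex_left]

end Cfsg.Lib.B2C

namespace Cfsg.Lib.PU.FF

open Subgroup Cfsg.Lib.BG Cfsg.Lib.Transfer Cfsg.Lib.Loc Cfsg.Lib.PLocal Cfsg.Lib.CGT Cfsg.Lib.B2C
open Cfsg.Lib.CS Cfsg.Lib.Root Cfsg.Lib.Core Cfsg.Lib.GC
open scoped commutatorElement MatrixGroups Matrix

variable {G : Type*} [Group G] [Finite G] {B M N P U X : Subgroup G} {f g w x y z : G}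
variable (h : FF 2 P X)
include h

theorem hf : ∃ (F : Type) (_ : Field F) (_ : Finite F) (_ : CharP F 2)
    (s : Sec SL(2, F) (Fin 2 → F) X (𝐘 X) (𝐘 X ⊓ 𝐂(X))), Hf P (𝐐 X) s := by
  obtain ⟨F, _, _, s, k⟩ := exists_hf h
  obtain ⟨n, e⟩ := h.syl.2.1.index ((𝐐 X).subgroupOf P)
  cases nonempty_fintype F
  exact ⟨F, _, ‹_›, charP_of_card_eq (Nat.card_eq_fintype_card.symm.trans (k.idxQ.symm.trans e)), s, k⟩

theorem le_sup : X ≤ 𝐑 X ⊔ P := (res_sup_sylowIn h.syl.1 h.syl.2.2).ge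

omit [Finite G] h in
theorem Y_el : IsElementaryAbelian 2 (𝐘 X) := oz_elemAb _

omit [Finite G] in
theorem W_le_Y : 𝐖 X ≤ 𝐘 X := comm_le_left (norm_Y 2 X)

omit [Finite G] in
theorem W_el : IsElementaryAbelian 2 (𝐖 X) := PGroup.elemAb_of_le Y_el h.W_le_Y

omit [Finite G] in
theorem W_le_Q : 𝐖 X ≤ 𝐐 X := h.W_le_Y.trans (Loc.oz_le _)

omit [Finite G] in
theorem nY : 𝐍(X) ≤ 𝐍(𝐘 X) :=
  (normalizer_le_normalizer_core 2 X).trans (normalizer_le_normalizer_oz _)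

omit [Finite G] in
theorem nW : 𝐍(X) ≤ 𝐍(𝐖 X) := norm_comm h.nY le_rfl

theorem Y_inf : 𝐘 X ⊓ 𝐂(𝐑 X) = 𝐘 X ⊓ 𝐂(X) :=
  le_antisymm (le_inf inf_le_left (CS.FF.Y_cent h)) (inf_le_inf_left _ (cent_anti (res_le 2 X)))

theorem W_eq : 𝐖 X = ⁅𝐘 X, 𝐑 X⁆ :=
  le_antisymm (CS.FF.comm_le_W' h le_rfl) (commutator_mono le_rfl (res_le 2 X))

theorem Y_le_sup : 𝐘 X ≤ 𝐖 X ⊔ 𝐘 X ⊓ 𝐂(X) := h.W_eq ▸ CS.FF.Y_le_W h

theorem comm_W : ⁅𝐖 X, 𝐑 X⁆ = 𝐖 X := h.W_eq ▸ CS.FF.WW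

theorem W_le_E : 𝐖 X ≤ 𝐑 X :=
  h.W_eq.le.trans (comm_le_right (((Loc.oz_le _).trans (Loc.core_le 2 X)).trans (le_normalizer_res 2 X)))

theorem cent_Y (hU : U ≤ X) (h1 : U ≤ 𝐂(𝐖 X)) : U ≤ 𝐂(𝐘 X) :=
  cent_symm (h.Y_le_sup.trans (sup_le (cent_symm h1) (inf_le_right.trans (cent_anti hU))))

theorem inf_cent_W : P ⊓ 𝐂(𝐖 X) = 𝐐 X := le_antisymm
  ((le_inf inf_le_left (h.cent_Y (inf_le_left.trans h.syl.1) inf_le_right)).trans h.cent_le)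
  (le_inf h.core_le ((le_centralizer_oz _).trans (cent_anti h.W_le_Y)))

theorem R_eq : ⁅𝐘 X, P⁆ = ⁅𝐖 X, P⁆ :=
  le_antisymm (h.W_eq ▸ CS.FF.comm_le_W h h.syl.1) (commutator_mono h.W_le_Y le_rfl)

omit [Finite G] in
theorem R_le : ⁅𝐘 X, P⁆ ≤ 𝐖 X := commutator_mono le_rfl h.syl.1

/-- An element outside the Borel subgroup. -/
theorem exists_gen : ∃ g ∈ 𝐑 X, X ≤ P ⊔ g ⋆ P := by
  obtain ⟨M, r⟩ := h.rk
  obtain ⟨g, hg, e⟩ := r.exists_gen le_rfl le_sup_left h.syl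
  obtain ⟨a, ha, p, hp, rfl⟩ := (mem_sup_left_norm (h.syl.1.trans (le_normalizer_res 2 X))).1 (h.le_sup hg)
  exact ⟨a, ha, by rwa [← Transfer.conj_conj, conj_eq_of_mem hp, sup_comm] at e⟩

omit [Finite G] in
theorem W_le_sup (hg : g ∈ X) (e : X ≤ P ⊔ g ⋆ P) : 𝐖 X ≤ ⁅𝐘 X, P⁆ ⊔ g ⋆ ⁅𝐘 X, P⁆ := by
  rw [conj_commutator, conj_eq_of_norm (norm_Y 2 X hg)]
  exact (commutator_mono le_rfl e).trans (comm_sup2 (sup_le (h.R_le.trans h.W_le_Y) (comm_le_left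
    ((conj_le_of_mem h.syl.1 hg).trans (norm_Y 2 X)))) le_sup_left le_sup_right)

theorem W_inf : 𝐖 X ⊓ 𝐂(P) = ⁅𝐘 X, P⁆ := by
  refine le_antisymm ?_ (le_inf h.R_le h.quad)
  obtain ⟨g, hg, e⟩ := h.exists_gen
  have hg' := res_le 2 X hg
  refine (inf_le_inf_right _ (h.W_le_sup hg' e)).trans ((modular_left h.quad ((conj_le_of_norm
    (h.R_le.trans h.W_le_Y) (norm_Y 2 X hg')).trans
      (abelian_norm Y_el.1 (h.R_le.trans h.W_le_Y)))).le.trans (sup_le le_rfl fun r hr => ?_))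
  have c : r ∈ 𝐂(X) := cent_anti e (le_cent_sup inf_le_right (inf_le_left.trans
    (conj_centralizer g P ▸ conj_mono g h.quad)) hr)
  have := Transfer.mem_conj.1 hr.1
  rwa [mul_assoc, ← BG.mem_cent.1 c g hg', inv_mul_cancel_left] at this

theorem oz_eq : 𝛀 P = 𝐘 X ⊓ 𝐂(P) := le_antisymm (le_inf h.oz_le (oz_le_centralizer _))
  (le_oz (PGroup.elemAb_of_le Y_el inf_le_left) (inf_le_left.trans h.Y_le) inf_le_right)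

theorem not_R_le : ¬ ⁅𝐘 X, P⁆ ≤ 𝐂(𝐑 X) := fun e =>
  h.not_comm_le ((le_inf (h.R_le.trans h.W_le_Y) e).trans (CS.FF.Y_cent h))

theorem idx_E : 𝐂(𝐑 X).relIndex (𝐖 X) = (𝐐 X).relIndex P ^ 2 := by
  obtain ⟨F, _, _, s, k⟩ := exists_hf h
  rw [idx_sup h.W_le_Y h.Y_le_sup h.Y_inf.ge Y_el.1, ← inf_relIndex_left, h.Y_inf, Hf.idxD s, k.idxQ]

theorem idx_P : 𝐂(P).relIndex (𝐖 X) = (𝐐 X).relIndex P :=
  (idx_sup h.W_le_Y h.Y_le_sup (inf_le_inf_left _ (cent_anti h.syl.1)) Y_el.1).trans h.natSec.2.1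

theorem idx_R : 𝐂(𝐑 X).relIndex ⁅𝐘 X, P⁆ = (𝐐 X).relIndex P := by
  have a : 𝐖 X ⊓ 𝐂(𝐑 X) ≤ ⁅𝐘 X, P⁆ := h.W_inf ▸ le_inf inf_le_left
    ((inf_le_inf_right _ h.W_le_Y).trans ((CS.FF.Y_cent h).trans (cent_anti h.syl.1)))
  have := relIndex_mul_relIndex _ _ _ a h.R_le
  rw [inf_relIndex_left, h.idx_E, ← inf_relIndex_left ⁅𝐘 X, P⁆, ← inf_assoc, inf_eq_left.2 h.R_le,
    inf_relIndex_left, pow_two] at this
  conv_lhs at this => enter [2]; rw [← h.W_inf, inf_relIndex_left, h.idx_P]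
  exact Nat.eq_of_mul_eq_mul_right (Nat.pos_of_ne_zero index_ne_zero_of_finite) this

theorem two_or : (𝐐 X).relIndex P = 2 ∨ 4 ≤ (𝐐 X).relIndex P := by
  obtain ⟨F, _, _, _, s, k⟩ := h.hf
  rw [k.idxQ]
  exact (two_le_card (F := F)).eq_or_lt.imp Eq.symm four_le

theorem mem_D (hy : y ∈ 𝐘 X) (e : y ∈ 𝐂(𝐑 X)) : y ∈ 𝐘 X ⊓ 𝐂(X) := h.Y_inf.le ⟨hy, e⟩

theorem nd (hx : x ∈ P) (hy : y ∈ 𝐘 X) (e : ⁅x, y⁆ ∈ 𝐂(𝐑 X)) : x ∈ 𝐐 X ∨ y ∈ 𝐂(P) :=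
  h.mem_or hx hy (h.mem_D (comm_mem_r (norm_Y 2 X (h.syl.1 hx)) hy) e).2

theorem nd' (hx : x ∈ P) (hy : y ∈ 𝐘 X) (e : x * y = y * x) : x ∈ 𝐐 X ∨ y ∈ 𝐂(P) :=
  h.nd hx hy (comm_eq_one.2 e ▸ one_mem _)

omit [Finite G] in
theorem psi_ne {A Γ : Type*} [Group Γ] [AddCommGroup A] [DistribMulAction Γ A]
    (s : Sec Γ A X (𝐘 X) (𝐘 X ⊓ 𝐂(X))) (hy : y ∈ 𝐘 X) (h1 : y ∉ 𝐂(𝐑 X)) :
    s.ψ y ≠ 0 := fun e => h1 (cent_anti (res_le 2 X) ((s.ker y hy).1 e).2)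

omit [Finite G] h in
theorem of_psi {A Γ : Type*} [Group Γ] [AddCommGroup A] [DistribMulAction Γ A]
    (s : Sec Γ A X (𝐘 X) (𝐘 X ⊓ 𝐂(X))) (hy : y ∈ 𝐘 X) (hz : z ∈ 𝐘 X) (e : s.ψ y = s.ψ z) :
    y * z ∈ 𝐂(X) := el_inv Y_el hy ▸ ((s.psi_eq_iff hy hz).1 e).2

/-- `E` is transitive on the nonzero vectors. -/
theorem trans (hy : y ∈ 𝐘 X) (hz : z ∈ 𝐘 X) (h1 : y ∉ 𝐂(𝐑 X)) (h2 : z ∉ 𝐂(𝐑 X)) :
    ∃ x ∈ 𝐑 X, x * y * x⁻¹ * z ∈ 𝐂(X) := by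
  obtain ⟨F, _, _, _, s, k⟩ := h.hf
  obtain ⟨a, a1, a2⟩ := exists_commutator_mulVec (h.psi_ne s hy h1)
  obtain ⟨b, b1, b2⟩ := exists_commutator_mulVec (h.psi_ne s hz h2)
  obtain ⟨x, hx, hx', e⟩ := Sec.mem_im.1 (show b * a⁻¹ ∈ s.im (𝐑 X) by
    rw [s.res_im le_rfl, k.top, res_sl]; exact mul_mem b1 (inv_mem a1))
  exact ⟨x, hx, of_psi s (s.conj_mem hx' hy) hz (by
    rw [s.conj x hx' y hy, e, ← a2, ← sl_smul, smul_smul, inv_mul_cancel_right, sl_smul, b2])⟩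

theorem mv (hy : y ∈ 𝐘 X) (hw : w ∈ 𝐖 X) (h1 : y ∉ 𝐂(𝐑 X)) (h2 : y * w ∉ 𝐂(𝐑 X)) :
    ∃ x ∈ 𝐑 X, ∃ r ∈ ⁅𝐘 X, P⁆, x * y * x⁻¹ = y * w * r := by
  have a := mul_mem hy (h.W_le_Y hw)
  obtain ⟨x, hx, e⟩ := h.trans hy a h1 h2
  have hx' := res_le 2 X hx
  refine ⟨x, hx, _, h.W_inf.le ⟨?_, cent_anti h.syl.1 e⟩, ?_⟩
  · rw [← mul_assoc]
    refine mul_mem ?_ hw
    have := comm_mem_comm hx' hy
    rwa [el_inv Y_el hy, commutator_comm] at this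
  · rw [el_comm Y_el (conj_mem_of_norm (norm_Y 2 X hx') hy) a, ← mul_assoc, el_sq Y_el a, one_mul]

/-- An element that moves one nonzero vector of the line into the line preserves the line. -/
theorem line (hy : y ∈ 𝐘 X ⊓ 𝐂(P)) (h1 : y ∉ 𝐂(𝐑 X)) (hg : g ∈ X) (e : g * y * g⁻¹ ∈ 𝐂(P)) :
    g ∈ 𝐍(𝐘 X ⊓ 𝐂(P)) := by
  obtain ⟨F, _, _, s, k⟩ := exists_hf h
  have a := (k.mem_C (s.conj_mem hg hy.1)).1 e
  rw [s.conj g hg y hy.1, sl_smul, mulVec_apply_one, (k.mem_C hy.1).1 hy.2, mul_zero, add_zero] at a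
  replace a := (mul_eq_zero.1 a).resolve_right fun b =>
    h.psi_ne s hy.1 h1 (vec_ext b ((k.mem_C hy.1).1 hy.2))
  refine mem_normalizer_of_conj_le (conj_le_iff.2 fun u hu => ⟨s.conj_mem hg hu.1,
    k.line _ (s.conj_mem hg hu.1) ?_⟩)
  rw [s.conj g hg u hu.1, sl_smul, mulVec_apply_one, (k.mem_C hu.1).1 hu.2, a, mul_zero, zero_mul, add_zero]

theorem ker' {F : Type} [Field F] {s : Sec SL(2, F) (Fin 2 → F) X (𝐘 X) (𝐘 X ⊓ 𝐂(X))}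
    (k : Hf P (𝐐 X) s) : s.pre ⊥ ≤ 𝐂(𝐘 X) := by
  have a := SylIn.inf_norm h.syl (s.pre_le ⊥) s.norm_K
  rw [← res_sup_sylowIn a.1 a.2.2]
  refine sup_le (res_le_centralizer_of_commutator (W := 𝐘 X ⊓ 𝐂(X)) (elab_pgroup Y_el).to_inf_left ?_
    ((res_le 2 _).trans ((s.pre_le ⊥).trans (cent_symm inf_le_right))))
    fun y hy => le_centralizer_oz _ (k.ker y hy.1 (Sec.mem_K.1 hy.2).2)
  rw [commutator_comm]
  exact (commutator_mono (res_le 2 _) le_rfl).trans s.comm_K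

theorem ker (hg : g ∈ X) (e : ∀ y ∈ 𝐖 X, ⁅g, y⁆ ∈ 𝐂(𝐑 X)) : g ∈ 𝐂(𝐘 X) := by
  obtain ⟨F, _, _, s, k⟩ := exists_hf h
  refine h.ker' k (Sec.mem_K.2 ⟨hg, sl_faith _ fun a => ?_⟩)
  obtain ⟨v, hv, rfl⟩ := s.exists_of_le h.W_le_Y h.Y_le_sup a
  exact (s.comm_mem_iff hg (h.W_le_Y hv)).1 (h.mem_D (s.comm_mem hg (h.W_le_Y hv)) (e v hv))

theorem ts (hf : f ∈ 𝐍(X)) (e : ∀ y ∈ 𝐖 X, ⁅f, y⁆ ∈ 𝐂(𝐑 X)) : f ∈ 𝐂(𝐖 X) := by
  have n := normalizer_le_normalizer_res 2 X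
  have a : ⁅⁅𝐖 X, 𝐑 X⁆, 𝐍(X) ⊓ relCent (𝐖 X) 𝐂(𝐑 X)⁆ = ⊥ := commutator_commutator_eq_bot_of_rotate
    (comm_eq_bot_iff.2 fun g hg => cent_anti h.W_le_Y (h.ker (res_le 2 X (comm_le_left
      (inf_le_left.trans n) hg)) (comm_le_right ((res_le 2 X).trans ((le_norm X).trans (norm_inf (le_norm _)
        (le_normalizer_relCent h.nW (norm_cent n))))) hg).2.2))
    (comm_eq_bot_iff.2 (le_relCent.1 inf_le_right).2)
  rw [h.comm_W] at a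
  exact comm_eq_bot_iff'.1 a ⟨hf, norm_cent n hf, e⟩

theorem inj (hy : y ∈ 𝐘 X) (hg : g ∈ X) (e : ⁅g, y⁆ ∈ 𝐂(𝐑 X)) : g * y = y * g := by
  by_cases h1 : y ∈ 𝐂(𝐑 X)
  · exact BG.mem_cent.1 (h.mem_D hy h1).2 g hg
  obtain ⟨F, _, _, s, k⟩ := exists_hf h
  obtain ⟨l, hl, c⟩ := k.exists_conj hy
  have a := (s.comm_mem_iff hg hy).1 (h.mem_D (s.comm_mem hg hy) e)
  have hy' := s.conj_mem hl hy
  have hg' := mul_mem (mul_mem hl hg) (inv_mem hl)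
  have b : s.ρ (l * g * l⁻¹) • s.ψ (l * y * l⁻¹) = s.ψ (l * y * l⁻¹) := by
    rw [s.rho_conj hl hg, s.conj l hl y hy, smul_smul, inv_mul_cancel_right, mul_smul, a]
  have c1 := (k.mem_C hy').1 c
  have c0 : s.ψ (l * y * l⁻¹) 0 ≠ 0 := fun d => h.psi_ne s hy h1 (by
    have := s.conj l hl y hy
    rwa [show s.ψ (l * y * l⁻¹) = 0 from vec_ext d c1, eq_comm, smul_eq_zero_iff_eq] at this)
  have b0 := congrFun b 0
  have b1 := congrFun b 1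
  rw [sl_smul, mulVec_apply_zero, c1, mul_zero, add_zero, mul_eq_right₀ c0] at b0
  rw [sl_smul, mulVec_apply_one, c1, mul_zero, add_zero, mul_eq_zero_iff_right c0] at b1
  have d := sl2_det (s.ρ (l * g * l⁻¹))
  rw [b0, b1, mul_zero, sub_zero, one_mul] at d
  obtain ⟨p, hp, e1⟩ := k.exists_B (s.ρ (l * g * l⁻¹) 0 1)
  have m := h.ker' k (Sec.mem_K.2 ⟨mul_mem (inv_mem (k.le hp)) hg', by
    rw [s.rho_inv_mul (k.le hp) hg', e1, inv_mul_eq_one]; exact sl2_ext b0.symm rfl b1.symm d.symm⟩)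
  have := mem_cent1.1 ((mul_mem_cancel_left (inv_mem (le_cent1_iff.2 c hp))).1 (cent_le_cent1 hy' m))
  rwa [conj_mul, conj_mul, mul_left_inj, mul_right_inj] at this

/-- For `y` off the line the commutators with a supplement `U` to `Q` cover the line. -/
theorem cover_line (hU : U ≤ P) (h1 : P ≤ U ⊔ 𝐐 X) (hy : y ∈ 𝐘 X) (h2 : y ∉ 𝐂(P))
    (hz : z ∈ 𝐘 X ⊓ 𝐂(P)) : ∃ u ∈ U, ⁅u, y⁆ * z ∈ 𝐂(X) := by
  obtain ⟨F, _, _, s, k⟩ := exists_hf h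
  obtain ⟨p, hp, e⟩ := k.exists_B (s.ψ z 0 / s.ψ y 1)
  obtain ⟨u, hu, q, hq, rfl⟩ := (mem_sup_right_norm (hU.trans k.nQ)).1 (h1 hp)
  rw [s.mul _ (k.le (hU hu)) _ (k.le (k.leQ hq)), k.rho_Q hq, mul_one] at e
  refine ⟨u, hu, of_psi s (k.cm_mem (hU hu) hy).1 hz.1 ?_⟩
  rw [k.psi_cm (hU hu) hy, e]
  exact vec_ext (div_mul_cancel₀ _ (mt (k.mem_C hy).2 h2)) ((k.mem_C hz.1).1 hz.2).symm

/-- For `x ∈ P` outside `Q` the commutators with `A` cover the line. -/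
theorem cover_line' (hx : x ∈ P) (h1 : x ∉ 𝐐 X) (hz : z ∈ 𝐘 X ⊓ 𝐂(P)) :
    ∃ w ∈ 𝐖 X, ⁅x, w⁆ * z ∈ 𝐂(X) := by
  obtain ⟨F, _, _, s, k⟩ := exists_hf h
  obtain ⟨w, hw, e⟩ := s.exists_of_le h.W_le_Y h.Y_le_sup ![0, s.ψ z 0 / s.ρ x 0 1]
  refine ⟨w, hw, of_psi s (k.cm_mem hx (h.W_le_Y hw)).1 hz.1 ?_⟩
  rw [k.psi_cm hx (h.W_le_Y hw), e]
  exact vec_ext (mul_div_cancel₀ _ (mt (k.mem_Q_iff hx).2 h1)) ((k.mem_C hz.1).1 hz.2).symm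

theorem W_le_of (hy : y ∈ 𝐘 X) (h1 : y ∉ 𝐂(𝐑 X)) (e : ∀ x ∈ X, y * (x * y * x⁻¹) ∈ N) : 𝐖 X ≤ N := by
  have a : ⁅zpowers y, X⁆ ≤ 𝐘 X := (commutator_mono (zpowers_le.2 hy) le_rfl).trans h.W_le_Y
  have b := (CS.FF.irr h a (right_norm_comm _ _)).resolve_left fun c => h1 fun x hx =>
    h.inj hy (res_le 2 X hx) (cent_anti (res_le 2 X) (c (commutator_comm X _ ▸
      commutator_mem_commutator (res_le 2 X hx) (mem_zpowers y))))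
  refine (commutator_mono b le_rfl).trans ((comm_sup_le (le_norm _) (inf_le_left.trans
    (abelian_norm Y_el.1 a)) (comm_le_left (right_norm_comm _ _))
    ((comm_eq_bot_iff.2 inf_le_right).le.trans bot_le)).trans (comm_le_iff.2 fun u hu x hx => ?_))
  rcases (mem_zp (el_sq Y_el hy)).1 hu with rfl | rfl
  · simp
  · simpa only [el_inv Y_el hy, mul_assoc] using e x hx

theorem q_le (hB : B ∈ maxIn 2 P) (h1 : ¬ B ≤ 𝐐 X) : (𝐐 X).relIndex P ≤ (𝐐 X).relIndex B := by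
  obtain ⟨b, hb, h2⟩ := SetLike.not_le_iff_exists.1 h1
  rw [← h.natSec.2.1, ← inf_relIndex_left B, ← le_antisymm ((inf_le_inf_right _ hB.1).trans h.cent_le |>
    le_inf inf_le_left) (inf_le_inf_left B (le_centralizer_oz _)), inf_relIndex_left]
  refine le_trans ?_ (max_off hB h.Y_le Y_el)
  rw [← inf_relIndex_left _ 𝐂(B)]
  exact relIndex_le_of_le_left (fun y hy => (h.nd' (hB.1 hb) hy.1 (BG.mem_cent.1 hy.2 b hb)).resolve_left h2)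
    index_ne_zero_of_finite

theorem le_sup_max (hB : B ∈ maxIn 2 P) (h1 : ¬ B ≤ 𝐐 X) : P ≤ B ⊔ 𝐐 X :=
  le_sup_of_relIndex_le hB.1 h.core_le ((hB.1.trans h.syl.1).trans (le_normalizer_core 2 X)) (h.q_le hB h1)

theorem repl (hB : B ∈ maxIn 2 P) (h1 : ¬ B ≤ 𝐐 X) : B ⊓ 𝐐 X ⊔ 𝐘 X ∈ maxIn 2 P := by
  obtain ⟨b, hb, h2⟩ := SetLike.not_le_iff_exists.1 h1
  have c : B ⊓ 𝐐 X ≤ 𝐂(𝐘 X) := inf_le_right.trans (le_centralizer_oz _)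
  refine mem_maxIn_of_card_le hB (sup_le (inf_le_left.trans hB.1) h.Y_le)
    (PGroup.elemAb_sup (PGroup.elemAb_of_le hB.2.1 inf_le_left) Y_el c) ?_
  rw [card_eq_mul (𝐐 X) B, ← BG.card_mul_relIndex (le_sup_left (b := 𝐘 X)), sup_comm,
    relIndex_sup_of_le_normalizer (norm_of_cent (cent_symm c)), ← inf_relIndex_left (𝐘 X)]
  refine Nat.mul_le_mul_left _ ((relIndex_le_of_le_right hB.1 index_ne_zero_of_finite).trans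
    (h.natSec.2.1.ge.trans (relIndex_le_of_le_left (fun y hy => ?_) index_ne_zero_of_finite)))
  exact (h.nd' (hB.1 hb) hy.1 (el_comm hB.2.1 hb hy.2.1)).resolve_left h2

theorem Y_le_max (hB : B ∈ maxIn 2 P) (h1 : B ≤ 𝐐 X) : 𝐘 X ≤ B := fun y hy =>
  mem_of_mem_maxIn hB (h.Y_le hy) (cent_anti h1 (oz_le_centralizer _ hy)) (Y_el.2 y hy)

theorem pair_le {P' X' : Subgroup G} (k : FF 2 P' X') (h1 : 𝐖 X ≤ P') (h3 : ¬ 𝐖 X ≤ 𝐂(𝐖 X')) :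
    (𝐐 X').relIndex P' ≤ (𝐐 X).relIndex (𝐖 X') := by
  obtain ⟨a, ha, h4⟩ := SetLike.not_le_iff_exists.1 h3
  rw [← k.idx_P, ← inf_relIndex_left _ (𝐐 X)]
  exact relIndex_le_of_le_left (fun y hy => (k.nd' (h1 ha) (k.W_le_Y hy.1) (BG.mem_cent.1
    (oz_le_centralizer _ (h.W_le_Y ha)) y hy.2).symm).resolve_left fun e => h4 (k.inf_cent_W.ge e).2)
    index_ne_zero_of_finite

/-- Two modules that do not commute. -/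
theorem pair {P' X' : Subgroup G} (k : FF 2 P' X') (h1 : 𝐖 X ≤ P') (h2 : 𝐖 X' ≤ P)
    (h3 : ¬ 𝐖 X ≤ 𝐂(𝐖 X')) : P ≤ 𝐖 X' ⊔ 𝐐 X ∧ (𝐐 X').relIndex P' = (𝐐 X).relIndex P := by
  have a := h.pair_le k h1 h3
  have e := (a.trans (relIndex_le_of_le_right h2 index_ne_zero_of_finite)).antisymm
    ((k.pair_le h h2 fun e => h3 (cent_symm e)).trans (relIndex_le_of_le_right h1 index_ne_zero_of_finite))
  exact ⟨le_sup_of_relIndex_le h2 h.core_le ((h2.trans h.syl.1).trans (le_normalizer_core 2 X)) (e ▸ a), e⟩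

end Cfsg.Lib.PU.FF
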